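import Groth.Agent.Coherent.DimShift
import Groth.Agent.DCat.ModulesGrothendieck
import Mathlib.CategoryTheory.Abelian.GrothendieckCategory.EnoughInjectives

/-! # Extensions with a given class -/

set_option autoImplicit false
set_option backward.isDefEq.respectTransparency.types false
set_option linter.style.haveILetI false

universe w v u

open CategoryTheory CategoryTheory.Limits AlgebraicGeometry

noncomputable section

namespace Groth.Agent.RibbonEx18

variable {A : Type u} [Category.{v} A] [Abelian A] [HasExt.{w} A] [EnoughInjectives A]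

theorem exists_ses {Z L : A} (e : Abelian.Ext Z L 1) :
    ∃ (E : A) (a : L ⟶ E) (b : E ⟶ Z) (w : a ≫ b = 0) (hS : (ShortComplex.mk a b w).ShortExact),
      hS.extClass = e := by
  let T := Coherent.injSES L
  have hT : T.ShortExact := Coherent.injSES_shortExact L
  haveI : Injective T.X₂ := inferInstanceAs (Injective (Injective.under L))
  haveI : Subsingleton (Abelian.Ext Z T.X₂ (0 + 1)) := Abelian.Ext.subsingleton_of_injective _ _ 0
  obtain ⟨y, hy⟩ := Coherent.exists_comp_extClass_eq hT (n := 0) e
  obtain ⟨η, rfl⟩ := (Abelian.Ext.mk₀_bijective _ _).2 y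
  haveI := hT.mono_f
  haveI := hT.epi_g
  let a : T.X₁ ⟶ pullback T.g η := pullback.lift T.f 0 (by rw [T.zero, zero_comp])
  let b : pullback T.g η ⟶ Z := pullback.snd _ _
  have w : a ≫ b = 0 := pullback.lift_snd _ _ _
  haveI : Mono a := mono_of_mono_fac (pullback.lift_fst T.f 0 _)
  haveI : Epi b := Abelian.epi_pullback_of_epi_f _ _
  have hex : (ShortComplex.mk a b w).Exact := by
    refine ShortComplex.exact_of_f_is_kernel _ (KernelFork.IsLimit.ofι' _ w fun {W} k hk => ?_)
    have hk' : (k ≫ pullback.fst T.g η) ≫ T.g = 0 := by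
      rw [Category.assoc, pullback.condition, ← Category.assoc, hk, zero_comp]
    refine ⟨hT.exact.lift _ hk', pullback.hom_ext ?_ ?_⟩
    · rw [Category.assoc, pullback.lift_fst]
      exact hT.exact.lift_f _ hk'
    · rw [Category.assoc, w, comp_zero]
      exact hk.symm
  have hS : (ShortComplex.mk a b w).ShortExact := ShortComplex.ShortExact.mk hex
  let τ : ShortComplex.mk a b w ⟶ T :=
    ShortComplex.homMk (𝟙 _) (pullback.fst _ _) η (by show 𝟙 _ ≫ T.f = a ≫ pullback.fst _ _; rw [pullback.lift_fst, Category.id_comp]) pullback.condition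
  have h := ShortComplex.ShortExact.extClass_naturality hS hT τ
  refine ⟨_, a, b, w, hS, Eq.trans ?_ (h.trans hy)⟩
  exact (Abelian.Ext.comp_mk₀_id _).symm

theorem exists_ses_modules {D : Scheme.{u}} [HasExt.{w} D.Modules] {Z L : D.Modules} (e : Abelian.Ext Z L 1) :
    ∃ (E : D.Modules) (a : L ⟶ E) (b : E ⟶ Z) (w : a ≫ b = 0) (hS : (ShortComplex.mk a b w).ShortExact),
      hS.extClass = e := by
  haveI : IsGrothendieckAbelian.{u} D.Modules := DCat.schemeModules_isGrothendieckAbelian D
  exact exists_ses e

end Groth.Agent.RibbonEx18
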