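import Groth.Agent.RibbonEx18.Sec

/-! # Localisation of the ring of an extension on affine opens -/

set_option autoImplicit false
set_option backward.isDefEq.respectTransparency false
set_option backward.isDefEq.respectTransparency.types false
set_option linter.style.haveILetI false
set_option maxHeartbeats 1000000

universe u

open CategoryTheory CategoryTheory.Limits AlgebraicGeometry TopologicalSpace Opposite
open Groth.Agent.OmegaLib Groth.Agent.Coherent

noncomputable section

namespace Groth.Agent.RibbonEx18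

variable {D S : Scheme.{u}} {pD : D ⟶ S} {Ω E L : D.Modules} {d : OmegaSh.Der pD Ω} {a : L ⟶ E} {b : E ⟶ Ω}
  {w : a ≫ b = 0}

variable (w) in
/-- Sections of `L` as functions. -/
def inl (U : D.Opens) (l : Γ(L, U)) : Sec d b U :=
  ⟨0, a.app U l, by rw [map_zero]; exact congr(($w).app U l)⟩

theorem res_inl {U V : D.Opens} (h : V ≤ U) (l : Γ(L, U)) :
    res h (inl (d := d) w U l) = inl w V (resM L h l) :=
  Sec.ext (map_zero _) (app_resM a h l).symm

theorem mul_inl {U : D.Opens} (p : Sec d b U) (l : Γ(L, U)) : p * inl w U l = inl w U (p.fst • l) :=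
  Sec.ext (mul_zero _) (by
    show p.fst • a.app U l + (0 : Γ(D, U)) • p.snd = a.app U (p.fst • l)
    rw [zero_smul, add_zero, Scheme.Modules.Hom.app_smul])

theorem inl_zero (U : D.Opens) : inl (d := d) w U 0 = 0 := Sec.ext rfl (map_zero _)

theorem inl_mul_inl {U : D.Opens} (l l' : Γ(L, U)) : inl (d := d) w U l * inl w U l' = 0 := by
  rw [mul_inl, show (inl (d := d) w U l).fst = 0 from rfl, zero_smul, inl_zero]

variable (hS : (ShortComplex.mk a b w).ShortExact)

include hS

theorem inl_injective (U : D.Opens) : Function.Injective (inl (d := d) w U) := fun l l' h =>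
  sections_injective hS U (congrArg Sec.snd h)

theorem exists_inl {U : D.Opens} (p : Sec d b U) (hp : p.fst = 0) : ∃ l, p = inl w U l := by
  obtain ⟨l, hl⟩ := sections_exact hS p.snd (p.eq.trans (by rw [hp, map_zero]))
  exact ⟨l, Sec.ext hp hl.symm⟩

variable [Coh.IsQCoh L] {W : D.Opens} (hW : IsAffineOpen W)

include hW

theorem proj_surjective : Function.Surjective (proj (d := d) (b := b) W) := fun x => by
  haveI : Coh.IsQCoh (ShortComplex.mk a b w).X₁ := inferInstanceAs (Coh.IsQCoh L)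
  obtain ⟨v, hv⟩ := sections_surjective hS hW (d.app W x)
  exact ⟨⟨x, v, hv⟩, rfl⟩

theorem exists_mul_eq_zero {V : D.Opens} (hV : V ≤ W) {y : D} (hy : y ∈ V) (p : Sec d b W) (h : res hV p = 0) :
    ∃ t : Sec d b W, y ∈ D.basicOpen t.fst ∧ t * p = 0 := by
  obtain ⟨f, hfV, hyf⟩ := hW.exists_basicOpen_le ⟨y, hy⟩ (hV hy)
  haveI := hW.isLocalization_basicOpen f
  have hx : algebraMap Γ(D, W) Γ(D, D.basicOpen f) p.fst = 0 := by
    have h1 : D.presheaf.map (homOfLE hV).op p.fst = 0 := congrArg Sec.fst h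
    show D.presheaf.map (homOfLE (D.basicOpen_le f)).op p.fst = 0
    rw [show (homOfLE (D.basicOpen_le f)).op = (homOfLE hV).op ≫ (homOfLE hfV).op from rfl, Functor.map_comp_apply, h1,
      map_zero]
  obtain ⟨⟨_, n, rfl⟩, hn⟩ := (IsLocalization.map_eq_zero_iff (Submonoid.powers f) _ _).1 hx
  obtain ⟨F, hF⟩ := proj_surjective (d := d) hS hW f
  change F.fst = f at hF
  have hfst : ∀ m, (F ^ m).fst = f ^ m := fun m => by
    rw [show (F ^ m).fst = proj W (F ^ m) from rfl, map_pow]
    exact congrArg (· ^ m) hF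
  obtain ⟨l, hl⟩ := exists_inl hS (F ^ n * p) (by rw [mul_fst, hfst]; exact hn)
  have hl0 : resM L (D.basicOpen_le f) l = 0 := inl_injective (d := d) hS _ (by
    rw [← res_inl (d := d), ← hl, map_mul, inl_zero, show res (D.basicOpen_le f) p = res hfV (res hV p) from
      (res_res hV hfV p).symm, h, map_zero, mul_zero])
  obtain ⟨m, hm⟩ := qcoh_exists_pow_smul_eq_zero hW L f l hl0
  refine ⟨F ^ (m + (n + 1)), ?_, ?_⟩
  · rw [hfst, D.basicOpen_pow f (by omega)]
    exact hyf
  · rw [show F ^ (m + (n + 1)) * p = F * (F ^ m * (F ^ n * p)) by ring, hl, mul_inl, hfst, hm, inl_zero, mul_zero]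

theorem exists_fraction {V : D.Opens} (hV : V ≤ W) {y : D} (hy : y ∈ V) (p : Sec d b V) :
    ∃ (V' : D.Opens) (hV' : V' ≤ V) (s t : Sec d b W), y ∈ V' ∧ y ∈ D.basicOpen t.fst ∧
      res (hV'.trans hV) t * res hV' p = res (hV'.trans hV) s := by
  obtain ⟨f, hfV, hyf⟩ := hW.exists_basicOpen_le ⟨y, hy⟩ (hV hy)
  haveI := hW.isLocalization_basicOpen f
  obtain ⟨⟨x₁, ⟨_, n, rfl⟩⟩, hx₁⟩ := IsLocalization.surj (Submonoid.powers f)
    (D.presheaf.map (homOfLE hfV).op p.fst)
  obtain ⟨X₁, hX₁⟩ := proj_surjective (d := d) hS hW x₁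
  obtain ⟨F, hF⟩ := proj_surjective (d := d) hS hW f
  change X₁.fst = x₁ at hX₁
  change F.fst = f at hF
  have hfst : ∀ m, (F ^ m).fst = f ^ m := fun m => by
    rw [show (F ^ m).fst = proj W (F ^ m) from rfl, map_pow]
    exact congrArg (· ^ m) hF
  obtain ⟨l, hl⟩ := exists_inl hS (res (D.basicOpen_le f) (F ^ n) * res hfV p - res (D.basicOpen_le f) X₁) (by
    rw [sub_eq_add_neg, add_fst, neg_fst, mul_fst, ← sub_eq_add_neg, sub_eq_zero]
    show D.presheaf.map (homOfLE _).op (F ^ n).fst * _ = D.presheaf.map (homOfLE _).op X₁.fst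
    rw [hfst, hX₁, mul_comm]
    exact hx₁)
  obtain ⟨m, l₁, hl₁⟩ := qcoh_exists_pow_smul hW L f l
  refine ⟨D.basicOpen f, hfV, F * (F ^ m * X₁ + inl w W l₁), F ^ (m + n + 1), hyf, ?_, ?_⟩
  · rw [hfst, D.basicOpen_pow f (by omega)]
    exact hyf
  · have e : res (D.basicOpen_le f) (inl (d := d) w W l₁) =
        res (D.basicOpen_le f) (F ^ m) * inl w (D.basicOpen f) l := by
      rw [res_inl, hl₁, mul_inl]
      congr 2
      show _ = D.presheaf.map (homOfLE _).op (F ^ m).fst
      rw [hfst]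
    rw [map_mul, map_add, map_mul, e, ← hl]
    simp only [map_pow]
    ring

end Groth.Agent.RibbonEx18
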