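import Groth.Agent.RibbonEx18.Loc

/-! # The extension is a scheme -/

set_option autoImplicit false
set_option backward.isDefEq.respectTransparency false
set_option backward.isDefEq.respectTransparency.types false
set_option linter.style.haveILetI false
set_option maxHeartbeats 1000000

universe u

open CategoryTheory CategoryTheory.Limits AlgebraicGeometry TopologicalSpace Opposite
open Groth.Agent.OmegaLib Groth.Agent.Coherent

noncomputable section

namespace Groth.Agent.RibbonEx18

variable {D S : Scheme.{u}} {pD : D ⟶ S} {Ω E L : D.Modules} {d : OmegaSh.Der pD Ω} {a : L ⟶ E} {b : E ⟶ Ω}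
  {w : a ≫ b = 0} (hS : (ShortComplex.mk a b w).ShortExact)

include hS

theorem isNilpotent_of_fst_eq_zero {U : D.Opens} (p : Sec d b U) (hp : p.fst = 0) : IsNilpotent p := by
  obtain ⟨l, rfl⟩ := exists_inl hS p hp
  exact ⟨2, by rw [pow_two, inl_mul_inl]⟩

omit hS in
theorem mem_primeIdealOf {W : D.Opens} (hW : IsAffineOpen W) (x : W) (r : Γ(D, W)) :
    r ∈ (hW.primeIdealOf x).asIdeal ↔ x.1 ∉ D.basicOpen r := by
  rw [hW.primeIdealOf_eq_map_closedPoint, D.mem_basicOpen r x.1 x.2]
  exact Iff.rfl

omit hS in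
theorem isUnit_germ_iff {U : D.Opens} (y : D) (hy : y ∈ U) (p : Sec d b U) :
    IsUnit ((pre d b).germ U y hy p) ↔ y ∈ D.basicOpen p.fst := by
  haveI := isLocalHom_stalk d b y
  rw [D.mem_basicOpen _ y hy]
  have e : ((TopCat.Presheaf.stalkFunctor CommRingCat y).map (projPre d b)).hom ((pre d b).germ U y hy p) =
      D.presheaf.germ U y hy p.fst := TopCat.Presheaf.stalkFunctor_map_germ_apply U y hy (projPre d b) p
  constructor
  · intro h
    rw [← e]
    exact h.map _
  · intro h
    refine isUnit_of_map_unit ((TopCat.Presheaf.stalkFunctor CommRingCat y).map (projPre d b)).hom _ ?_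
    exact e.symm ▸ h

theorem exists_affine [Coh.IsQCoh L] (x : lrs d b) :
    ∃ (U : OpenNhds x) (R : CommRingCat), Nonempty
      ((lrs d b).restrict U.isOpenEmbedding ≅ Spec.toLocallyRingedSpace.obj (op R)) := by
  obtain ⟨U, hU, hxU, -⟩ := exists_isAffineOpen_mem_and_subset (X := D) (x := x) (U := (⊤ : D.Opens)) trivial
  let N : OpenNhds x := ⟨U, hxU⟩
  let X := (lrs d b).restrict N.isOpenEmbedding
  let W : D.Opens := N.isOpenEmbedding.functor.obj ⊤
  have hWU : W = U := Opens.isOpenEmbedding_obj_top U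
  have hW : IsAffineOpen W := by rw [hWU]; exact hU
  let R := LocallyRingedSpace.Γ.obj (op X)
  let π : R →+* Γ(D, W) := proj (d := d) (b := b) W
  have hπ : Function.Surjective π := proj_surjective (d := d) hS hW
  let θ := X.toΓSpec
  refine ⟨N, R, ⟨@asIso _ _ _ _ θ ?_⟩⟩
  have hval : ∀ y : X, (y.1 : D) ∈ W := fun y => by rw [hWU]; exact y.2
  let cπ : C(PrimeSpectrum Γ(D, W), PrimeSpectrum R) := ⟨PrimeSpectrum.comap π, PrimeSpectrum.continuous_comap π⟩
  have hrange : Function.Surjective cπ := fun P => by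
    have : P ∈ Set.range (PrimeSpectrum.comap π) := by
      rw [range_comap_of_surjective _ _ hπ]
      intro r hr
      obtain ⟨n, hn⟩ := isNilpotent_of_fst_eq_zero hS (r : Sec d b W) hr
      exact P.isPrime.mem_of_pow_mem n (by rw [show (r : R) ^ n = 0 from hn]; exact zero_mem _)
    exact this
  let h : PrimeSpectrum Γ(D, W) ≃ₜ PrimeSpectrum R :=
    (PrimeSpectrum.isClosedEmbedding_comap_of_surjective _ π hπ).isEmbedding.toHomeomorphOfSurjective hrange
  have hθ : ∀ y : X, θ.base y = h (hW.primeIdealOf ⟨y.1, hval y⟩) := fun y => PrimeSpectrum.ext (by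
    ext r
    show ¬ IsUnit (X.presheaf.Γgerm y r) ↔ π r ∈ (hW.primeIdealOf ⟨y.1, hval y⟩).asIdeal
    rw [mem_primeIdealOf]
    refine not_congr ?_
    refine Iff.trans ?_ (isUnit_germ_iff y.1 (hval y) r)
    refine Iff.trans (isUnit_map_iff ((lrs d b).restrictStalkIso N.isOpenEmbedding y).hom.hom _).symm ?_
    exact iff_of_eq (congrArg IsUnit
      ((lrs d b).restrictStalkIso_hom_eq_germ_apply N.isOpenEmbedding ⊤ y trivial r)))
  have hemb : Topology.IsEmbedding θ.base := by
    refine Topology.IsEmbedding.of_comp θ.base.hom.continuous (hW.fromSpec.continuous.comp h.symm.continuous) ?_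
    have : (hW.fromSpec ∘ h.symm) ∘ θ.base = fun y : X => (y.1 : D) := funext fun y => by
      show hW.fromSpec (h.symm (θ.base y)) = y.1
      rw [hθ, h.symm_apply_apply]
      exact hW.fromSpec_primeIdealOf _
    rw [this]
    exact Topology.IsEmbedding.subtypeVal
  have hsurj : Function.Surjective θ.base := fun P => by
    have hy : hW.fromSpec (h.symm P) ∈ (U : Set D) := by
      rw [← hWU, ← hW.range_fromSpec]
      exact ⟨_, rfl⟩
    refine ⟨⟨_, hy⟩, ?_⟩
    rw [hθ]
    refine Eq.trans (congrArg h ?_) (h.apply_symm_apply P)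
    exact hW.fromSpec.isOpenEmbedding.injective (hW.fromSpec_primeIdealOf _)
  have hoe : Topology.IsOpenEmbedding θ.base := ⟨hemb, by rw [hsurj.range_eq]; exact isOpen_univ⟩
  haveI : ∀ y : X, IsIso (θ.stalkMap y) := fun y => by
    rw [ConcreteCategory.isIso_iff_bijective]
    let P : PrimeSpectrum R := X.toΓSpecFun y
    let g : (Spec.structureSheaf R).presheaf.stalk P →+* X.presheaf.stalk y := (θ.stalkMap y).hom
    change Function.Bijective g
    haveI := StructureSheaf.IsLocalization.to_stalk R P
    have hg : ∀ r : R, g (algebraMap R _ r) = X.presheaf.Γgerm y r := fun r =>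
      congr($(X.toStalk_stalkMap_toΓSpec y) r)
    have hP : ∀ r : R, (y.1 : D) ∈ D.basicOpen (π r) → r ∈ P.asIdeal.primeCompl := fun r hr hmem => by
      have : r ∈ (θ.base y).asIdeal := hmem
      rw [hθ] at this
      exact ((mem_primeIdealOf hW ⟨y.1, hval y⟩ _).1 this) hr
    constructor
    · rw [injective_iff_map_eq_zero]
      intro z hz
      obtain ⟨r, t, rfl⟩ := IsLocalization.exists_mk'_eq P.asIdeal.primeCompl z
      have h0 : X.presheaf.Γgerm y r = X.presheaf.Γgerm y 0 := by
        rw [map_zero, ← hg, ← IsLocalization.mk'_spec _ r t, map_mul, hz, zero_mul]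
      obtain ⟨O, hyO, l₁, l₂, hO⟩ := X.presheaf.germ_eq (U := ⊤) (V := ⊤) y trivial trivial _ _ h0
      obtain ⟨T, hT, hTr⟩ := exists_mul_eq_zero (d := d) hS hW (V := N.isOpenEmbedding.functor.obj O)
        (leOfHom (N.isOpenEmbedding.functor.map l₁)) (y := y.1) ⟨y, hyO, rfl⟩ r (hO.trans (map_zero _))
      rw [IsLocalization.mk'_eq_zero_iff]
      exact ⟨⟨T, hP T hT⟩, hTr⟩
    · intro τ
      obtain ⟨O, hyO, p, rfl⟩ := X.presheaf.exists_germ_eq τ
      obtain ⟨V', hV', s, t, hyV', hyt, hst⟩ := exists_fraction (d := d) hS hW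
        (V := N.isOpenEmbedding.functor.obj O) (leOfHom (N.isOpenEmbedding.functor.map (homOfLE le_top)))
        (y := y.1) ⟨y, hyO, rfl⟩ p
      let tR : R := t
      let sR : R := s
      let tt : P.asIdeal.primeCompl := ⟨tR, hP tR hyt⟩
      refine ⟨IsLocalization.mk' _ sR tt, ?_⟩
      have hu : IsUnit (X.presheaf.Γgerm y tR) := by
        rw [← hg]
        exact (IsLocalization.map_units _ tt).map g
      refine hu.mul_right_cancel ?_
      rw [← hg tR, ← map_mul, show IsLocalization.mk' _ sR tt * algebraMap R _ tR = algebraMap R _ sR from IsLocalization.mk'_spec _ sR tt, hg, hg]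
      let O' : Opens X := (Opens.map (Opens.inclusion' U)).obj V'
      have hO' : O' ≤ O := fun z hz => by
        obtain ⟨z', hz', hzz⟩ := hV' (show z.1 ∈ V' from hz)
        rwa [Subtype.val_injective hzz] at hz'
      have hI : N.isOpenEmbedding.functor.obj O' ≤ V' := by
        rintro _ ⟨z, hz, rfl⟩
        exact hz
      show X.presheaf.germ ⊤ y trivial s = X.presheaf.germ O y hyO p * X.presheaf.germ ⊤ y trivial t
      rw [← X.presheaf.germ_res_apply (homOfLE (le_top : O' ≤ ⊤)) y (show y ∈ O' from hyV') s,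
        ← X.presheaf.germ_res_apply (homOfLE hO') y (show y ∈ O' from hyV') p,
        ← X.presheaf.germ_res_apply (homOfLE (le_top : O' ≤ ⊤)) y (show y ∈ O' from hyV') t, ← map_mul]
      refine congrArg _ ?_
      have e := congrArg (res hI) hst
      rw [map_mul, res_res, res_res, res_res, mul_comm] at e
      exact e.symm
  haveI : LocallyRingedSpace.IsOpenImmersion θ := LocallyRingedSpace.IsOpenImmersion.of_stalk_iso θ hoe
  haveI : Epi θ.base := (TopCat.epi_iff_surjective _).2 hsurj
  exact LocallyRingedSpace.IsOpenImmersion.to_iso θ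

/-- The scheme of the extension. -/
def extScheme [Coh.IsQCoh L] : Scheme.{u} :=
  { lrs d b with local_affine := fun x => exists_affine (d := d) hS x }

end Groth.Agent.RibbonEx18
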