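import Groth.Prelude.Def_MultCurve
import Groth.Agent.RibbonEx18.Scheme
import Groth.Agent.RibbonEx18.Ext
import Groth.Agent.Ribbon18.Class
import Groth.Agent.Omega15.Compat
import Groth.Agent.Omega15.ConormalDiffExist
import Groth.Agent.OmegaLib.DOmega
import Groth.Agent.Coherent.FiniteType
import Groth.Agent.PicLib.FormalGen
import Groth.Agent.S5976

/-! # The ribbon of an extension -/

set_option autoImplicit false
set_option backward.isDefEq.respectTransparency false
set_option backward.isDefEq.respectTransparency.types false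
set_option linter.style.haveILetI false
set_option maxHeartbeats 1000000

universe u

open CategoryTheory CategoryTheory.Limits AlgebraicGeometry TopologicalSpace Opposite
open Groth.Agent.OmegaLib Groth.Agent.Coherent Groth.Agent.Thick15

noncomputable section

namespace Groth.Agent.RibbonEx18

theorem finiteType_of_sqzero {R A B : Type u} [CommRing R] [CommRing A] [CommRing B] (g : R →+* A) (π : A →+* B)
    (hπ : Function.Surjective π) (hft : (π.comp g).FiniteType) (hker : (RingHom.ker π).FG)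
    (hsq : RingHom.ker π ^ 2 = ⊥) : g.FiniteType := by
  classical
  letI : Algebra R A := g.toAlgebra
  letI : Algebra R B := (π.comp g).toAlgebra
  show Algebra.FiniteType R A
  haveI hB : Algebra.FiniteType R B := hft
  obtain ⟨G, hG⟩ := hB.out
  obtain ⟨K, hK⟩ := hker
  let πa : A →ₐ[R] B := { π with commutes' := fun _ => rfl }
  choose L hL using hπ
  let T := Algebra.adjoin R ((G.image L ∪ K : Finset A) : Set A)
  have hTsurj : ∀ a : A, ∃ t ∈ T, π t = π a := by
    intro a
    have h1 : T.map πa = ⊤ := by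
      rw [eq_top_iff, ← hG, Algebra.adjoin_le_iff]
      exact fun x hx => ⟨L x, Algebra.subset_adjoin (by simp [Finset.mem_coe.1 hx] ; left; exact ⟨x, hx, rfl⟩), hL x⟩
    exact Subalgebra.mem_map.1 (h1 ▸ Algebra.mem_top : π a ∈ T.map πa)
  have hkerT : ∀ a ∈ RingHom.ker π, a ∈ T := by
    intro a ha
    rw [← hK, Submodule.mem_span_finset] at ha
    obtain ⟨c, -, rfl⟩ := ha
    refine sum_mem fun x hx => ?_
    obtain ⟨t, ht, htc⟩ := hTsurj (c x)
    have h2 : c x * x = t * x := by
      have h3 : (c x - t) * x ∈ RingHom.ker π ^ 2 := by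
        rw [pow_two]
        exact Ideal.mul_mem_mul (by rw [RingHom.mem_ker, map_sub, htc, sub_self]) (hK ▸ Submodule.subset_span hx)
      rw [hsq, Ideal.mem_bot, sub_mul, sub_eq_zero] at h3
      exact h3
    rw [smul_eq_mul, h2]
    exact mul_mem ht (Algebra.subset_adjoin (by simp [hx]))
  refine ⟨⟨G.image L ∪ K, eq_top_iff.2 fun a _ => ?_⟩⟩
  obtain ⟨t, ht, hta⟩ := hTsurj a
  rw [show a = t + (a - t) by abel]
  exact add_mem ht (hkerT _ (by rw [RingHom.mem_ker, map_sub, hta, sub_self]))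

variable {k : Type u} [Field k] {D : Scheme.{u}} {pD : D ⟶ Spec (CommRingCat.of k)} {Ω E L : D.Modules}
  {d : OmegaSh.Der pD Ω} {a : L ⟶ E} {b : E ⟶ Ω} {w : a ≫ b = 0}
  (hS : (ShortComplex.mk a b w).ShortExact) [Coh.IsQCoh L]

/-- The inclusion of `D`. -/
def incl : D ⟶ extScheme (d := d) hS :=
  Scheme.Hom.mk
    { base := 𝟙 _
      c :=
        { app := fun U => CommRingCat.ofHom (proj (d := d) (b := b) U.unop)
          naturality := fun U V h => rfl }
      prop := fun y => by
        constructor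
        intro t ht
        obtain ⟨U, hU, p, rfl⟩ := (pre d b).exists_germ_eq t
        erw [PresheafedSpace.stalkMap_germ_apply] at ht
        exact (isUnit_germ_iff y hU p).2 ((D.mem_basicOpen _ y hU).2 ht) }

theorem isAffineOpen_of_ext {W : (extScheme (d := d) hS).Opens} (hW : IsAffineOpen W)
    [IsClosedImmersion (incl (d := d) hS)] : IsAffineOpen (X := D) W :=
  hW.preimage (incl (d := d) hS)

instance isClosedImmersion_incl : IsClosedImmersion (incl (d := d) hS) where
  isClosedEmbedding := Topology.IsClosedEmbedding.id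
  stalkMap_surjective y t := by
    obtain ⟨U, hU, x, rfl⟩ := D.presheaf.exists_germ_eq t
    obtain ⟨W, hW, hyW, hWU⟩ := exists_isAffineOpen_mem_and_subset (X := D) (x := y) (U := U) hU
    obtain ⟨p, hp⟩ := proj_surjective (d := d) hS hW (D.presheaf.map (homOfLE hWU).op x)
    refine ⟨(extScheme (d := d) hS).presheaf.germ W y hyW p, ?_⟩
    refine (Scheme.Hom.germ_stalkMap_apply (incl (d := d) hS) W y hyW p).trans ?_
    rw [← D.presheaf.germ_res_apply (homOfLE hWU) y hyW x]
    exact congrArg (D.presheaf.germ W y hyW) hp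

theorem mem_ker_ideal (W : (extScheme (d := d) hS).affineOpens) (p : Sec d b W.1) :
    p ∈ (incl (d := d) hS).ker.ideal W ↔ p.fst = 0 := by
  rw [Scheme.Hom.ker_apply]
  exact Iff.rfl

theorem ker_sq : (incl (d := d) hS).ker ^ 2 = ⊥ := by
  refine Scheme.IdealSheafData.ext (funext fun W => ?_)
  rw [Scheme.IdealSheafData.ideal_pow, Pi.pow_apply, Scheme.IdealSheafData.ideal_bot, pow_two, Pi.bot_apply,
    eq_bot_iff, Ideal.mul_le]
  intro p hp q hq
  obtain ⟨l, rfl⟩ := exists_inl hS (p : Sec d b W.1) ((mem_ker_ideal hS W p).1 hp)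
  obtain ⟨l', rfl⟩ := exists_inl hS (q : Sec d b W.1) ((mem_ker_ideal hS W q).1 hq)
  exact (Ideal.mem_bot).2 (inl_mul_inl l l')

theorem isPrimThick (hL : PicF.IsInvertible L) : MultCurve.IsPrimThick (incl (d := d) hS) 2 := by
  refine ⟨inferInstance, ker_sq hS, fun y => ?_⟩
  obtain ⟨U, hyU, s, hs⟩ := PicLib.exists_isGen hL y
  obtain ⟨W, hW, hyW, hWU⟩ :=
    exists_isAffineOpen_mem_and_subset (X := extScheme (d := d) hS) (x := y) (U := U) hyU
  have hW' : IsAffineOpen (X := D) W := isAffineOpen_of_ext hS hW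
  let z : Sec d b W := inl w W (resM L hWU s)
  refine ⟨⟨W, hW⟩, hyW, z, le_antisymm (fun p hp => ?_) ?_, fun p hp => ?_⟩
  · obtain ⟨l, rfl⟩ := exists_inl hS (p : Sec d b W) ((mem_ker_ideal hS ⟨W, hW⟩ p).1 hp)
    obtain ⟨r, hr⟩ := (hs W hWU).2 l
    obtain ⟨q, hq⟩ := proj_surjective (d := d) hS hW' r
    refine Ideal.mem_span_singleton'.2 ⟨q, ?_⟩
    show (q : Sec d b W) * inl w W (resM L hWU s) = inl w W l
    rw [mul_inl]
    exact congrArg (inl w W) ((congrArg (· • resM L hWU s) (show q.fst = r from hq)).trans hr)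
  · rw [Ideal.span_le, Set.singleton_subset_iff]
    exact (mem_ker_ideal hS ⟨W, hW⟩ z).2 rfl
  · rw [mem_ker_ideal hS ⟨W, hW⟩]
    rw [show (2 - 1 : ℕ) = 1 from rfl, pow_one] at hp
    have h1 : inl (d := d) w W ((p : Sec d b W).fst • resM L hWU s) = inl w W 0 := by
      rw [← mul_inl, inl_zero]; exact hp
    exact (hs W hWU).1 ((inl_injective hS W h1).trans (zero_smul _ _).symm)

variable (pD d b) in
/-- The constants. -/
def cst : k →+* Sec d b (⊤ : D.Opens) where
  toFun r := ⟨pD.appTop ((Scheme.ΓSpecIso (CommRingCat.of k)).inv r), 0, by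
    rw [map_zero]; exact (app_app d ⊤ _).symm⟩
  map_one' := Sec.ext (by show pD.appTop ((Scheme.ΓSpecIso (CommRingCat.of k)).inv 1) = 1; rw [map_one, map_one]) rfl
  map_zero' := Sec.ext (by show pD.appTop ((Scheme.ΓSpecIso (CommRingCat.of k)).inv 0) = 0; rw [map_zero, map_zero]) rfl
  map_add' r s := Sec.ext (by show pD.appTop _ = pD.appTop _ + pD.appTop _; rw [map_add, map_add]) (zero_add _).symm
  map_mul' r s := Sec.ext (by show pD.appTop _ = pD.appTop _ * pD.appTop _; rw [map_mul, map_mul]) (by simp)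

/-- The structure map. -/
def toBase : extScheme (d := d) hS ⟶ Spec (CommRingCat.of k) :=
  (extScheme (d := d) hS).toSpecΓ ≫ Spec.map (CommRingCat.ofHom (cst pD d b))

theorem incl_toBase : incl (d := d) hS ≫ toBase hS = pD := by
  rw [toBase, Scheme.toSpecΓ_naturality_assoc]
  have h1 : CommRingCat.ofHom (cst pD d b) ≫ (incl (d := d) hS).appTop =
      (Scheme.ΓSpecIso (CommRingCat.of k)).inv ≫ pD.appTop := by
    ext r
    rfl
  rw [← Spec.map_comp, h1, Spec.map_comp, ← Scheme.toSpecΓ_naturality_assoc, ← SpecMap_ΓSpecIso_hom,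
    ← Spec.map_comp, Iso.inv_hom_id, Spec.map_id, Category.comp_id]

theorem locallyOfFiniteType_toBase [LocallyOfFiniteType pD] (hL : PicF.IsInvertible L) :
    LocallyOfFiniteType (toBase (d := d) hS) := by
  refine ⟨fun {U} hU {V} hV e => ?_⟩
  have hV' : IsAffineOpen (X := D) V := isAffineOpen_of_ext hS hV
  refine finiteType_of_sqzero _ (proj (d := d) (b := b) V) (proj_surjective hS hV') ?_ ?_ ?_
  · have key : ∀ (m : D ⟶ Spec (CommRingCat.of k)), m = pD →
        ∀ e' : (V : D.Opens) ≤ m ⁻¹ᵁ U, (m.appLE U V e').hom.FiniteType := by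
      rintro m rfl e'
      exact m.finiteType_appLE hU hV' e'
    have h2 := key _ (incl_toBase (d := d) hS) e
    rw [Scheme.Hom.comp_appLE] at h2
    have h3 : (toBase (d := d) hS).appLE U V e ≫ CommRingCat.ofHom (proj (d := d) (b := b) V) =
        (toBase (d := d) hS).app U ≫ (incl (d := d) hS).appLE _ V e := by
      ext x
      rfl
    rw [← h3] at h2
    exact h2
  · haveI : Module.Finite Γ(D, V) Γ(L, V) :=
      ((isCoh_iff_finite_sections L).1 (PicLib.isCoh_of_isInvertible hL)).2 V hV'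
    obtain ⟨G, hG⟩ := Module.Finite.fg_top (R := Γ(D, V)) (M := Γ(L, V))
    refine Submodule.fg_def.2 ⟨inl (d := d) w V '' (G : Set Γ(L, V)), G.finite_toSet.image _, le_antisymm ?_ ?_⟩
    · refine Submodule.span_le.2 ?_
      rintro _ ⟨l, -, rfl⟩
      exact RingHom.mem_ker.2 rfl
    · intro p hp
      obtain ⟨l, rfl⟩ := exists_inl hS p hp
      have hl : l ∈ Submodule.span Γ(D, V) (G : Set Γ(L, V)) := hG.symm ▸ Submodule.mem_top
      refine Submodule.span_induction (p := fun l _ => inl (d := d) w V l ∈ Submodule.span (Sec d b V) (inl (d := d) w V '' (G : Set Γ(L, V))))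
        (fun x hx => Submodule.subset_span ⟨x, hx, rfl⟩) (by rw [inl_zero]; exact zero_mem _)
        (fun x y _ _ hx hy => ?_) (fun r x _ hx => ?_) hl
      · rw [show inl (d := d) w V (x + y) = inl w V x + inl w V y from Sec.ext (add_zero _).symm (map_add _ _ _)]
        exact add_mem hx hy
      · obtain ⟨q, hq⟩ := proj_surjective (d := d) hS hV' r
        rw [show r = q.fst from hq.symm, ← mul_inl]
        exact Submodule.smul_mem _ q hx
  · rw [pow_two, eq_bot_iff, Ideal.mul_le]
    intro p hp q hq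
    obtain ⟨l, rfl⟩ := exists_inl hS p hp
    obtain ⟨l', rfl⟩ := exists_inl hS q hq
    exact (Ideal.mem_bot).2 (inl_mul_inl l l')

theorem quasiSeparated_toBase [LocallyOfFiniteType pD] : QuasiSeparated (toBase (d := d) hS) := by
  haveI : IsLocallyNoetherian D := LocallyOfFiniteType.isLocallyNoetherian pD
  haveI h : QuasiSeparatedSpace D := IsLocallyNoetherian.quasiSeparatedSpace
  haveI : QuasiSeparatedSpace (extScheme (d := d) hS) := h
  exact QuasiSeparated.of_quasiSeparatedSpace _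

theorem exact_aux {C S : Scheme.{u}} {i : D ⟶ C} [IsClosedImmersion i] {pC : C ⟶ S} (pD' : D ⟶ S)
    (hp : i ≫ pC = pD') {Ω₁ : C.Modules} {d₁ : OmegaSh.Der pC Ω₁} (h₁ : OmegaSh.IsUniversal d₁)
    {Ω₂ : D.Modules} {d₂ : OmegaSh.Der pD' Ω₂} (h₂ : OmegaSh.IsUniversal d₂)
    {φ : Omega.conormal i ⟶ (Scheme.Modules.pullback i).obj Ω₁} (hφ : OmegaSh.IsConormalDiff i d₁ φ)
    {c : (Scheme.Modules.pullback i).obj Ω₁ ⟶ Ω₂} (hc : OmegaSh.IsDiffCompat i d₁ d₂ c) :
    Epi c ∧ ∃ hw : φ ≫ c = 0, (ShortComplex.mk φ c hw).Exact := by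
  subst hp
  obtain ⟨he, him⟩ := Groth.Agent.S5976.result pC i Ω₁ d₁ h₁ Ω₂ d₂ h₂ φ hφ c hc
  have hw : φ ≫ c = 0 := by
    rw [← imageSubobject_arrow_comp φ, Category.assoc]
    have : (imageSubobject φ).arrow ≫ c = 0 := by
      rw [← Subobject.ofLE_arrow him.le, Category.assoc, kernelSubobject_arrow_comp, comp_zero]
    rw [this, comp_zero]
  exact ⟨he, hw, (ShortComplex.exact_iff_image_eq_kernel _).2 him⟩

theorem toBase_appTop_snd (r : Γ(Spec (CommRingCat.of k), ⊤)) :
    ((toBase (d := d) hS).appTop r : Sec d b (⊤ : D.Opens)).snd = 0 := by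
  have h : (toBase (d := d) hS).appTop = (Scheme.ΓSpecIso (CommRingCat.of k)).hom ≫ CommRingCat.ofHom (cst pD d b) := by
    rw [toBase, Scheme.Hom.comp_appTop, Scheme.toSpecΓ_appTop]
    exact Scheme.ΓSpecIso_naturality _
  rw [h]
  rfl

theorem toBase_app_snd (V : (Spec (CommRingCat.of k)).Opens) (r : Γ(Spec (CommRingCat.of k), V)) :
    ((toBase (d := d) hS).app V r : Sec d b (toBase (d := d) hS ⁻¹ᵁ V)).snd = 0 := by
  refine section_ext fun y hy => ?_
  have hV : V = ⊤ := eq_top_iff.2 fun z _ => by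
    haveI : Subsingleton (PrimeSpectrum k) := inferInstance
    rw [show z = toBase (d := d) hS y from Subsingleton.elim (α := PrimeSpectrum k) _ _]
    exact hy
  subst hV
  refine ⟨_, le_rfl, hy, ?_⟩
  rw [show ((toBase (d := d) hS).app ⊤ r : Sec d b _).snd = 0 from toBase_appTop_snd hS r, map_zero]

theorem exists_ribbon [LocallyOfFiniteType pD] [AlgebraicGeometry.IsReduced D] (hL : PicF.IsInvertible L)
    (hd : OmegaSh.IsUniversal d) :
    ∃ (Ω₁ : (extScheme (d := d) hS).Modules) (d₁ : OmegaSh.Der (toBase (d := d) hS) Ω₁)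
      (_ : OmegaSh.IsUniversal d₁)
      (φ : Omega.conormal (incl (d := d) hS) ⟶ (Scheme.Modules.pullback (incl (d := d) hS)).obj Ω₁)
      (_ : OmegaSh.IsConormalDiff (incl (d := d) hS) d₁ φ)
      (c : (Scheme.Modules.pullback (incl (d := d) hS)).obj Ω₁ ⟶ Ω)
      (_ : OmegaSh.IsDiffCompat (incl (d := d) hS) d₁ d c)
      (hw : φ ≫ c = 0) (_ : (ShortComplex.mk φ c hw).ShortExact)
      (θ : Omega.conormal (incl (d := d) hS) ≅ L) (β : (Scheme.Modules.pullback (incl (d := d) hS)).obj Ω₁ ⟶ E),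
      φ ≫ β = θ.hom ≫ a ∧ β ≫ b = c := by
  haveI := quasiSeparated_toBase (d := d) hS
  let i := incl (d := d) hS
  have hp : i ≫ toBase hS = pD := incl_toBase hS
  have h₁ := OmegaLib.isUniversal_dOmega (toBase (d := d) hS)
  let d₁ := OmegaSh.dOmega (toBase (d := d) hS)
  obtain ⟨φ, hφ⟩ := Omega15.exists_conormalDiff i d₁
  obtain ⟨c, hc, -⟩ := Omega15.existsUnique_compat i (𝟙 _) ((Category.comp_id _).trans hp.symm) h₁ d
  obtain ⟨hepi, hw, hex⟩ := exact_aux pD hp h₁ hd hφ hc
  let δ : OmegaSh.Der (toBase (d := d) hS) ((Scheme.Modules.pushforward i).obj E) :=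
    { d := fun {U} => AddMonoidHom.mk' (fun p => (p : Sec d b U.unop).snd) (fun _ _ => rfl)
      d_mul := fun {U} p q => rfl
      d_map := fun {U V} h p => rfl
      d_app := fun {V} r => by
        show ((toBase (d := d) hS).app V.unop r : Sec d b _).snd = 0
        exact toBase_app_snd hS V.unop r }
  obtain ⟨α, hα, -⟩ := h₁ _ δ
  let β : (Scheme.Modules.pullback i).obj _ ⟶ E :=
    ((Scheme.Modules.pullbackPushforwardAdjunction i).homEquiv _ _).symm α
  have hu : (Scheme.Modules.pullbackPushforwardAdjunction i).unit.app _ ≫ (Scheme.Modules.pushforward i).map β = α :=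
    ((Scheme.Modules.pullbackPushforwardAdjunction i).homEquiv_unit _ _ _).symm.trans (Equiv.apply_symm_apply _ α)
  have hβ : ∀ U (p : Γ(extScheme (d := d) hS, U)),
      β.app (i ⁻¹ᵁ U) (OmegaSh.pullSect i _ U (d₁.app U p)) = (p : Sec d b U).snd := fun U p => by
    refine (congr(($hu).app U (d₁.app U p))).trans ?_
    rw [show (p : Sec d b U).snd = δ.app U p from rfl, ← hα]
    rfl
  have hβc : β ≫ b = c := Omega15.hom_ext_pull_der i h₁ fun U p => by
    show b.app _ (β.app _ (OmegaSh.pullSect i _ U (d₁.app U p))) = _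
    rw [hβ]
    exact ((p : Sec d b U).eq).trans (hc U p).symm
  haveI : Mono a := hS.mono_f
  have hz : (φ ≫ β) ≫ b = 0 := by rw [Category.assoc, hβc, hw]
  let θ : Omega.conormal i ⟶ L := hS.exact.lift (φ ≫ β) hz
  have hθ : θ ≫ a = φ ≫ β := hS.exact.lift_f _ hz
  have hθs : ∀ U (s : Γ(ClSub.idealMod i.ker, U)),
      inl (d := d) w U (θ.app (i ⁻¹ᵁ U) (OmegaSh.conormalSect i U s)) = OmegaSh.idealSect i.ker U s := fun U s => by
    refine Sec.ext (Omega15.app_idealSect_eq_zero i U s).symm ?_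
    show (θ ≫ a).app (i ⁻¹ᵁ U) (OmegaSh.conormalSect i U s) = _
    rw [hθ]
    show β.app _ (φ.app _ _) = _
    rw [hφ U s]
    exact hβ U _
  haveI : Epi θ := OmegaLib.epi_of_stalks_surjective θ fun z v => by
    obtain ⟨U, hU, l, rfl⟩ := exists_gm L v
    obtain ⟨s, hs⟩ := Omega15.exists_idealSect_of_app_eq_zero i U (inl (d := d) w U l) rfl
    refine ⟨gm _ (i ⁻¹ᵁ U) z hU (OmegaSh.conormalSect i U s), ?_⟩
    rw [map_gm]
    exact congrArg (gm L U z hU) (inl_injective (d := d) hS U ((hθs U s).trans hs))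
  haveI : Mono θ := Preadditive.mono_of_cancel_zero _ fun {N} g hg => hom_eq_zero_of_stalks g fun z v => by
    obtain ⟨U, hU, s, hs⟩ := exists_gm_conormalSect i z ((DerSch.stalkFunctor D z).map g v)
    have h1 : gm L (i ⁻¹ᵁ U) z hU (θ.app _ (OmegaSh.conormalSect i U s)) = 0 := by
      rw [← map_gm, ← hs, ← ConcreteCategory.comp_apply, ← Functor.map_comp, hg, Functor.map_zero]
      rfl
    obtain ⟨W, hzW, l₁, l₂, hW⟩ := L.presheaf.germ_eq z hU hU _ _ (h1.trans (map_zero (L.presheaf.germ (i ⁻¹ᵁ U) z hU).hom).symm)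
    have h2 : θ.app (i ⁻¹ᵁ W) (OmegaSh.conormalSect i W ((ClSub.idealMod i.ker).presheaf.map
        (homOfLE (leOfHom l₁ : W ≤ U)).op s)) = 0 := by
      refine Eq.trans ?_ ((show resM L (leOfHom l₁) (θ.app _ (OmegaSh.conormalSect i U s)) = resM L (leOfHom l₂) 0
        from hW).trans (map_zero _))
      rw [← app_resM]
      refine congrArg (θ.app _) ?_
      exact (Omega15.conormalSect_map i (leOfHom l₁) s (i ⁻¹ᵁ W) le_rfl (i.preimage_mono (leOfHom l₁))).symm.trans
        (resM_refl _ _) |>.symm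
    have h3 : OmegaSh.idealSect i.ker W ((ClSub.idealMod i.ker).presheaf.map (homOfLE (leOfHom l₁ : W ≤ U)).op s) = 0 := by
      rw [← hθs, h2, inl_zero]
    have h4 := OmegaLib.idealSect_injective i.ker W (h3.trans (map_zero _).symm)
    rw [hs]
    refine (gm_res (Omega.conormal i) hU (i.preimage_mono (leOfHom l₁ : W ≤ U)) hzW _).symm.trans ?_
    have h5 := Omega15.conormalSect_map i (leOfHom l₁ : W ≤ U) s (i ⁻¹ᵁ W) le_rfl (i.preimage_mono (leOfHom l₁))
    rw [h4, map_zero] at h5
    exact (congrArg (gm _ _ z hzW) (h5.symm.trans (map_zero _))).trans (map_zero _)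
  haveI : IsIso θ := isIso_of_mono_of_epi θ
  haveI : Mono φ := by
    haveI : Mono (φ ≫ β) := by rw [← hθ]; infer_instance
    exact mono_of_mono φ β
  haveI := hepi
  exact ⟨_, d₁, h₁, φ, hφ, c, hc, hw, ShortComplex.ShortExact.mk hex, asIso θ, β, hθ.symm, hβc⟩

end Groth.Agent.RibbonEx18
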