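import Groth.Agent.OmegaLib.Der
import Groth.Agent.Coherent.QcohLocal
import Groth.Agent.AmpleLib.Ample

/-! # The sheaf of rings of an extension of differentials -/

set_option autoImplicit false
set_option backward.isDefEq.respectTransparency false
set_option backward.isDefEq.respectTransparency.types false
set_option linter.style.haveILetI false
set_option maxHeartbeats 1000000

universe u

open CategoryTheory CategoryTheory.Limits AlgebraicGeometry TopologicalSpace Opposite
open Groth.Agent.OmegaLib Groth.Agent.Coherent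

noncomputable section

namespace Groth.Agent.RibbonEx18

variable {D S : Scheme.{u}} {pD : D ⟶ S} {Ω E L : D.Modules} (d : OmegaSh.Der pD Ω) (b : E ⟶ Ω)

/-- Pairs `(x, w)` with `b w = d x`. -/
structure Sec (U : D.Opens) : Type u where
  fst : Γ(D, U)
  snd : Γ(E, U)
  eq : b.app U snd = d.app U fst

variable {d b}

theorem Sec.ext {U : D.Opens} {p q : Sec d b U} (h₁ : p.fst = q.fst) (h₂ : p.snd = q.snd) : p = q := by
  cases p; cases q; subst h₁ h₂; rfl

section Ring

variable {U V W : D.Opens}

instance : Zero (Sec d b U) := ⟨⟨0, 0, by rw [map_zero, map_zero]⟩⟩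
instance : One (Sec d b U) := ⟨⟨1, 0, by rw [map_zero, app_one]⟩⟩
instance : Add (Sec d b U) := ⟨fun p q => ⟨p.fst + q.fst, p.snd + q.snd, by rw [map_add, map_add, p.eq, q.eq]⟩⟩
instance : Neg (Sec d b U) := ⟨fun p => ⟨-p.fst, -p.snd, by rw [map_neg, map_neg, p.eq]⟩⟩
instance : Mul (Sec d b U) :=
  ⟨fun p q => ⟨p.fst * q.fst, p.fst • q.snd + q.fst • p.snd, by
    rw [app_mul, map_add, Scheme.Modules.Hom.app_smul, Scheme.Modules.Hom.app_smul, p.eq, q.eq]⟩⟩

@[simp] theorem zero_fst : (0 : Sec d b U).fst = 0 := rfl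
@[simp] theorem zero_snd : (0 : Sec d b U).snd = 0 := rfl
@[simp] theorem one_fst : (1 : Sec d b U).fst = 1 := rfl
@[simp] theorem one_snd : (1 : Sec d b U).snd = 0 := rfl
@[simp] theorem add_fst (p q : Sec d b U) : (p + q).fst = p.fst + q.fst := rfl
@[simp] theorem add_snd (p q : Sec d b U) : (p + q).snd = p.snd + q.snd := rfl
@[simp] theorem neg_fst (p : Sec d b U) : (-p).fst = -p.fst := rfl
@[simp] theorem neg_snd (p : Sec d b U) : (-p).snd = -p.snd := rfl
@[simp] theorem mul_fst (p q : Sec d b U) : (p * q).fst = p.fst * q.fst := rfl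
@[simp] theorem mul_snd (p q : Sec d b U) : (p * q).snd = p.fst • q.snd + q.fst • p.snd := rfl

instance : CommRing (Sec d b U) where
  add_assoc p q r := Sec.ext (add_assoc _ _ _) (add_assoc _ _ _)
  zero_add p := Sec.ext (zero_add _) (zero_add _)
  add_zero p := Sec.ext (add_zero _) (add_zero _)
  add_comm p q := Sec.ext (add_comm _ _) (add_comm _ _)
  neg_add_cancel p := Sec.ext (neg_add_cancel _) (neg_add_cancel _)
  nsmul := nsmulRec
  zsmul := zsmulRec
  left_distrib p q r := Sec.ext (left_distrib _ _ _) (by simp [smul_add, add_smul]; abel)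
  right_distrib p q r := Sec.ext (right_distrib _ _ _) (by simp [smul_add, add_smul]; abel)
  zero_mul p := Sec.ext (zero_mul _) (by simp)
  mul_zero p := Sec.ext (mul_zero _) (by simp)
  mul_assoc p q r := Sec.ext (mul_assoc _ _ _) (by simp [smul_add, smul_smul, mul_comm]; abel)
  one_mul p := Sec.ext (one_mul _) (by simp)
  mul_one p := Sec.ext (mul_one _) (by simp)
  mul_comm p q := Sec.ext (mul_comm _ _) (add_comm _ _)

/-- Restriction. -/
def res (h : V ≤ U) : Sec d b U →+* Sec d b V where
  toFun p := ⟨D.presheaf.map (homOfLE h).op p.fst, resM E h p.snd, by rw [app_resM, p.eq, app_map d h]⟩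
  map_zero' := Sec.ext (map_zero _) (map_zero _)
  map_one' := Sec.ext (map_one _) (map_zero _)
  map_add' p q := Sec.ext (map_add _ _ _) (map_add _ _ _)
  map_mul' p q := Sec.ext (map_mul _ _ _) (by simp [map_add, resM_smul])

theorem res_res (h : V ≤ U) (h' : W ≤ V) (p : Sec d b U) : res h' (res h p) = res (h'.trans h) p :=
  Sec.ext (by show D.presheaf.map _ (D.presheaf.map _ _) = _; rw [← Functor.map_comp_apply]; rfl)
    (resM_resM E h h' _)

/-- The first projection. -/
def proj (U : D.Opens) : Sec d b U →+* Γ(D, U) where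
  toFun p := p.fst
  map_zero' := rfl
  map_one' := rfl
  map_add' _ _ := rfl
  map_mul' _ _ := rfl

theorem isUnit_of_isUnit_fst {p : Sec d b U} (h : IsUnit p.fst) : IsUnit p := by
  obtain ⟨y, hy⟩ := h.exists_right_inv
  have h1 : d.app U y = -(y * y) • d.app U p.fst := by
    have h2 : p.fst • d.app U y + y • d.app U p.fst = 0 := by rw [← app_mul, hy, app_one]
    have h3 := congrArg (y • ·) h2
    simp only [smul_add, smul_smul, smul_zero] at h3
    rw [mul_comm y p.fst, hy, one_smul] at h3
    rw [neg_smul]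
    exact eq_neg_of_add_eq_zero_left h3
  let q : Sec d b U := ⟨y, -(y * y) • p.snd, by rw [Scheme.Modules.Hom.app_smul, p.eq, h1]⟩
  refine IsUnit.of_mul_eq_one q (Sec.ext hy ?_)
  show p.fst • (-(y * y) • p.snd) + y • p.snd = 0
  rw [smul_smul, show p.fst * -(y * y) = -y by linear_combination -y * hy, neg_smul, neg_add_cancel]

end Ring

variable (d b)

/-- The presheaf of rings. -/
def pre : TopCat.Presheaf CommRingCat.{u} D.carrier where
  obj U := CommRingCat.of (Sec d b U.unop)
  map i := CommRingCat.ofHom (res (leOfHom i.unop))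
  map_id U := CommRingCat.hom_ext (RingHom.ext fun p => Sec.ext
    (ConcreteCategory.congr_hom (D.presheaf.map_id _) p.fst) (resM_refl E p.snd))
  map_comp i j := CommRingCat.hom_ext (RingHom.ext fun p => (res_res _ _ p).symm)

theorem isSheaf_pre : (pre d b).IsSheaf := by
  rw [TopCat.Presheaf.isSheaf_iff_isSheafUniqueGluing]
  intro ι W sf hc
  let T : TopCat.Sheaf Ab D := ⟨E.presheaf, E.isSheaf⟩
  obtain ⟨s, hs, hs'⟩ := TopCat.Sheaf.existsUnique_gluing D.sheaf W (fun i => (show Sec d b (W i) from sf i).fst)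
    (fun i j => congrArg Sec.fst (hc i j))
  obtain ⟨l, hl, hl'⟩ := TopCat.Sheaf.existsUnique_gluing T W (fun i => (show Sec d b (W i) from sf i).snd)
    (fun i j => congrArg Sec.snd (hc i j))
  have heq : b.app _ l = d.app _ s := by
    refine section_ext fun y hy => ?_
    obtain ⟨i, hi⟩ := Opens.mem_iSup.1 hy
    refine ⟨W i, le_iSup W i, hi, ?_⟩
    have h1 : resM E (le_iSup W i) l = (show Sec d b (W i) from sf i).snd := hl i
    have h2 : D.presheaf.map (homOfLE (le_iSup W i)).op s = (show Sec d b (W i) from sf i).fst := hs i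
    refine (app_resM b (le_iSup W i) l).symm.trans ?_
    rw [h1]
    exact ((show Sec d b (W i) from sf i).eq.trans (congrArg (d.app (W i)) h2.symm)).trans (app_map d (le_iSup W i) s)
  refine ⟨(⟨s, l, heq⟩ : Sec d b (iSup W)), fun i => Sec.ext (hs i) (hl i), fun p hp => ?_⟩
  exact Sec.ext (hs' _ fun i => congrArg Sec.fst (hp i)) (hl' _ fun i => congrArg Sec.snd (hp i))

/-- The projection, as a map of presheaves. -/
def projPre : pre d b ⟶ D.presheaf where
  app U := CommRingCat.ofHom (proj U.unop)
  naturality U V i := CommRingCat.hom_ext (RingHom.ext fun p => rfl)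

theorem isLocalHom_stalk (y : D) : IsLocalHom ((TopCat.Presheaf.stalkFunctor CommRingCat y).map (projPre d b)).hom := by
  constructor
  intro t ht
  obtain ⟨U, hU, p, rfl⟩ := (pre d b).exists_germ_eq t
  rw [TopCat.Presheaf.stalkFunctor_map_germ_apply] at ht
  have hy : y ∈ D.basicOpen ((show Sec d b U from p).fst) := (D.mem_basicOpen _ y hU).2 ht
  let V := D.basicOpen ((show Sec d b U from p).fst)
  have h1 : IsUnit (res (D.basicOpen_le _) (show Sec d b U from p) : Sec d b V) :=
    isUnit_of_isUnit_fst (RingedSpace.isUnit_res_basicOpen _ _)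
  rw [← (pre d b).germ_res_apply (homOfLE (D.basicOpen_le _)) y hy]
  exact (show IsUnit ((pre d b).map (homOfLE (D.basicOpen_le _)).op p) from h1).map _

/-- The locally ringed space of the extension. -/
def lrs : LocallyRingedSpace.{u} where
  carrier := D.carrier
  presheaf := pre d b
  IsSheaf := isSheaf_pre d b
  isLocalRing y := by
    haveI := isLocalHom_stalk d b y
    haveI : IsLocalRing ((TopCat.Presheaf.stalkFunctor CommRingCat y).obj D.presheaf) :=
      inferInstanceAs (IsLocalRing (D.presheaf.stalk y))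
    exact RingHom.domain_isLocalRing ((TopCat.Presheaf.stalkFunctor CommRingCat y).map (projPre d b)).hom

end Groth.Agent.RibbonEx18
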